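import Groth.Agent.Lib.GlobSize16.Size
import Mathlib

/-!
# Bounding the global size of a perfect complex by its local size
-/

set_option autoImplicit false
set_option linter.all false

universe u

open CategoryTheory CategoryTheory.Limits CategoryTheory.Pretriangulated DerivedCategory AlgebraicGeometry
open W4c5algebraiztannaka (bcCx)

noncomputable section

namespace GrothLib.GlobSize16

attribute [local instance] HasDerivedCategory.standard

variable {R : Type u} [CommRing R]

theorem exactAt_iso {K L : DRing.Cx R} (e : DRing.toD K ≅ DRing.toD L) {i : ℤ} (h : L.ExactAt i) :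
    K.ExactAt i := by
  rw [PC.exactAt_iff_isZero]
  exact ((PC.exactAt_iff_isZero L i).1 h).of_iso ((homologyFunctor _ i).mapIso e)

theorem homology_iso {K L : DRing.Cx R} (e : DRing.toD K ≅ DRing.toD L) (i : ℤ) :
    Nonempty (K.homology i ≅ L.homology i) :=
  ⟨((homologyFunctorFactors _ i).app K).symm ≪≫ (homologyFunctor _ i).mapIso e ≪≫
    (homologyFunctorFactors _ i).app L⟩

/-- The cone of a morphism in `D` between sized complexes is sized. -/
theorem exists_sized_cone {s t : ℕ} {T : Triangle (Dual.D R)} (hT : T ∈ distTriang _)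
    {E₁ E₂ : DRing.Cx R} {a₁ b₁ a₂ b₂ a b : ℤ} (h₁ : PC.Within (sized R s) a₁ b₁ E₁)
    (h₂ : PC.Within (sized R t) a₂ b₂ E₂) (ha₁ : a ≤ a₁ - 1) (ha₂ : a ≤ a₂) (hb₁ : b₁ - 1 ≤ b) (hb₂ : b₂ ≤ b)
    (e₁ : DRing.toD E₁ ≅ T.obj₁) (e₂ : DRing.toD E₂ ≅ T.obj₂) :
    ∃ E : DRing.Cx R, PC.Within (sized R (s + t)) a b E ∧ Nonempty (DRing.toD E ≅ T.obj₃) := by
  obtain ⟨f, hf⟩ := PC.exists_map (sized R s) (lift_sized s) h₁ (e₁.hom ≫ T.mor₁ ≫ e₂.inv)
  refine ⟨CochainComplex.mappingCone f, ⟨fun i => ?_, fun i hi => ?_⟩,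
    ⟨Triangle.π₃.mapIso (isoTriangleOfIso₁₂ _ _ (mappingCone_triangle_distinguished f) hT e₁ e₂ ?_)⟩⟩
  · exact (sized R (s + t)).prop_of_iso (HomologicalComplex.homotopyCofiber.XIsoBiprod f i (i + 1) rfl).symm
      (sized_biprod (h₁.1 _) (h₂.1 _))
  · exact (CochainComplex.mappingCone.isZero_X_iff f i).2
      ⟨h₁.2 _ (hi.imp (by omega) (by omega)), h₂.2 _ (hi.imp (by omega) (by omega))⟩
  · show Q.map f ≫ e₂.hom = e₁.hom ≫ T.mor₁
    simp [hf]

/-- A single module as a sized complex. -/
theorem within_single {s : ℕ} (t : ℤ) {M : ModuleCat.{u} R} (hM : sized R s M) :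
    PC.Within (sized R s) t t ((HomologicalComplex.single _ (ComplexShape.up ℤ) t).obj M) := by
  constructor
  · intro i
    by_cases hi : i = t
    · subst hi
      exact (sized R s).prop_of_iso (HomologicalComplex.singleObjXSelf _ _ _).symm hM
    · exact sized_of_isZero s (HomologicalComplex.isZero_single_obj_X _ _ _ _ hi)
  · intro i hi
    exact HomologicalComplex.isZero_single_obj_X _ _ _ _ (by omega)

/-- A complex within one degree is that degree. -/
theorem nonempty_iso_single {P : ObjectProperty (ModuleCat.{u} R)} {t : ℤ} {K : DRing.Cx R}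
    (hK : PC.Within P t t K) :
    Nonempty (K ≅ (HomologicalComplex.single _ (ComplexShape.up ℤ) t).obj (K.X t)) := by
  haveI : K.IsStrictlyGE t := (CochainComplex.isStrictlyGE_iff K t).2 fun i hi => hK.2 i (Or.inl hi)
  haveI : K.IsStrictlyLE t := (CochainComplex.isStrictlyLE_iff K t).2 fun i hi => hK.2 i (Or.inr hi)
  obtain ⟨Y, ⟨e⟩⟩ := CochainComplex.exists_iso_single K t
  exact ⟨e ≪≫ (HomologicalComplex.single _ _ t).mapIso
    ((HomologicalComplex.singleObjXSelf (ComplexShape.up ℤ) t Y).symm ≪≫ (HomologicalComplex.eval _ _ t).mapIso e.symm)⟩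

theorem exact_cx_of_bc {B : Type u} [CommRing B] (φ : R →+* B) (hφ : φ.FaithfullyFlat) (K : DRing.Cx R) (i : ℤ)
    (h : ((bcCx φ).obj K).ExactAt i) : K.ExactAt i := by
  rw [HomologicalComplex.exactAt_iff_isZero_homology] at h ⊢
  obtain ⟨e⟩ := nonempty_homology_bcCx φ hφ.flat K i
  exact subsingleton_of_extendScalars φ hφ _ (h.of_iso e.symm)

theorem exact_bc_of_cx {B : Type u} [CommRing B] (φ : R →+* B) (hφ : φ.FaithfullyFlat) (K : DRing.Cx R) (i : ℤ)
    (h : K.ExactAt i) : ((bcCx φ).obj K).ExactAt i := by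
  rw [HomologicalComplex.exactAt_iff_isZero_homology] at h ⊢
  obtain ⟨e⟩ := nonempty_homology_bcCx φ hφ.flat K i
  haveI : (ModuleCat.extendScalars.{u, u, u} φ).PreservesZeroMorphisms := inferInstance
  exact ((ModuleCat.extendScalars.{u, u, u} φ).map_isZero h).of_iso e

/-- A finite projective module whose base change is a quotient of `B^s` is `s m`-sized. -/
theorem sized_of_bc {B : Type u} [CommRing B] (φ : R →+* B) {m s : ℕ}
    (hc : W4c5algebraiztannaka.IsNisCoverLen (Spec.map (CommRingCat.ofHom φ)) m)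
    {M : ModuleCat.{u} R} (hM : Module.Finite R M)
    (h : ∃ g : ModuleCat.of B (Fin s → B) ⟶ (ModuleCat.extendScalars.{u, u, u} φ).obj M, Epi g) :
    ∃ t : (Fin (s * m) → R) →ₗ[R] M, Function.Surjective t := by
  haveI := hM
  obtain ⟨g, hg⟩ := h
  exact exists_generators φ hc M g

theorem exists_epi_of_sized {B : Type u} [CommRing B] {s : ℕ} {M : ModuleCat.{u} B} (h : sized B s M) :
    ∃ g : ModuleCat.of B (Fin s → B) ⟶ M, Epi g := by
  obtain ⟨-, g, hg⟩ := h
  exact ⟨ModuleCat.ofHom g, (ModuleCat.epi_iff_surjective _).2 hg⟩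

theorem projective_of_bc {B : Type u} [CommRing B] (φ : R →+* B) (hφ : φ.FaithfullyFlat)
    {M : ModuleCat.{u} R} [Module.FinitePresentation R M]
    (h : Module.Projective B ((ModuleCat.extendScalars.{u, u, u} φ).obj M)) : Module.Projective R M := by
  letI := φ.toAlgebra
  haveI : Module.FaithfullyFlat R B := hφ
  haveI : Module.Projective B (TensorProduct R B M) := h
  haveI : Module.Flat B (TensorProduct R B M) := Module.Flat.of_projective
  haveI : Module.Flat R M := Module.Flat.of_flat_tensorProduct R M B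
  exact Module.Flat.projective_of_finitePresentation

/-- The top homology of a complex vanishing above `t` as a cokernel. -/
theorem exists_epi_homology_top (K : DRing.Cx R) (t : ℤ) (h : IsZero (K.X (t + 1))) :
    ∃ p : K.X t ⟶ K.homology t, Epi p ∧ Function.Exact (K.d (t - 1) t).hom p.hom := by
  let e := K.liftCycles (𝟙 (K.X t)) (t + 1) (by simp) (h.eq_of_tgt _ _)
  haveI : IsIso e := by
    refine ⟨K.iCycles t, by simp [e], ?_⟩
    rw [← cancel_mono (K.iCycles t)]; simp [e]
  refine ⟨e ≫ K.homologyπ t, inferInstance, ?_⟩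
  have hcond : K.d (t - 1) t ≫ e ≫ K.homologyπ t = 0 := by
    have : K.d (t - 1) t ≫ e = K.toCycles (t - 1) t := by
      rw [← cancel_mono (K.iCycles t)]; simp [e]
    rw [← Category.assoc, this]; simp
  let S := ShortComplex.mk (K.d (t - 1) t) (e ≫ K.homologyπ t) hcond
  have hS : S.Exact := by
    refine S.exact_of_g_is_cokernel ?_
    refine CokernelCofork.IsColimit.ofπ' _ _ fun k hk => ⟨(K.homologyIsCokernel (t - 1) t (by simp)).desc
      (CokernelCofork.ofπ (K.iCycles t ≫ k) (by rw [← Category.assoc, K.toCycles_i, hk])), ?_⟩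
    have h1 := (K.homologyIsCokernel (t - 1) t (by simp)).fac
      (CokernelCofork.ofπ (K.iCycles t ≫ k) (by rw [← Category.assoc, K.toCycles_i, hk])) WalkingParallelPair.one
    simp only [Cofork.ofπ_ι_app] at h1
    show (e ≫ K.homologyπ t) ≫ _ = k
    rw [Category.assoc]
    erw [h1]
    simp [e]
  exact (ShortComplex.ShortExact.moduleCat_exact_iff_function_exact S).1 hS

/-- The bound. -/
def G (m : ℕ) : ℕ → ℕ → ℕ
  | 0, s => s * m
  | j + 1, s => G m j (s + s * m) + s * m

theorem main {B : Type u} [CommRing B] (φ : R →+* B) {m : ℕ}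
    (hc : W4c5algebraiztannaka.IsNisCoverLen (Spec.map (CommRingCat.ofHom φ)) m) :
    ∀ (j : ℕ) (s : ℕ) (C : DRing.Cx R) (a b : ℤ), PC.Within (finProj R) a b C →
      ∀ (lo : ℤ) (P : DRing.Cx B), PC.Within (sized B s) lo (lo + j) P →
        (DRing.toD P ≅ DRing.toD ((bcCx φ).obj C)) →
        ∃ E : DRing.Cx R, PC.Within (sized R (G m j s)) lo (lo + j) E ∧ Nonempty (DRing.toD E ≅ DRing.toD C) := by
  have hφ := faithfullyFlat_of_isNisCoverLen φ hc
  intro j
  induction j with
  | zero =>
    intro s C a b hC lo P hP e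
    simp only [Nat.cast_zero, add_zero] at hP ⊢
    have hex : ∀ i, i ≠ lo → C.ExactAt i := fun i hi => exact_cx_of_bc φ hφ C i
      (exactAt_iso e.symm (HomologicalComplex.ExactAt.of_isZero (hP.2 i (by omega))))
    obtain ⟨C', q, hC', hq⟩ := PC.exists_within_of_acyclic_above (finProj R) stable_finProj
      (a := min a lo) (b := lo) (c := b) (by omega) C
      ⟨hC.1, fun i hi => hC.2 i (by omega)⟩ (fun i hi => hex i (by omega))
    let M := C'.homology lo
    obtain ⟨p, hp, hpe⟩ := exists_epi_homology_top C' lo (hC'.2 _ (Or.inr (by omega)))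
    haveI := (hC'.1 lo).1
    haveI := (hC'.1 (lo - 1)).1
    haveI := (hC'.1 lo).2
    haveI : Module.Finite R M := Module.Finite.of_surjective p.hom ((ModuleCat.epi_iff_surjective _).1 hp)
    haveI : Module.FinitePresentation R M := by
      haveI : Module.FinitePresentation R (C'.X lo) := Module.finitePresentation_of_projective R _
      refine Module.finitePresentation_of_surjective p.hom ((ModuleCat.epi_iff_surjective _).1 hp) ?_
      rw [LinearMap.exact_iff.1 hpe, LinearMap.range_eq_map]
      exact Module.Finite.fg_top.map _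
    obtain ⟨eh⟩ := nonempty_homology_bcCx φ hφ.flat C lo
    obtain ⟨eP⟩ := homology_iso e lo
    obtain ⟨eS⟩ := nonempty_iso_single hP
    haveI := hq
    let eB : P.X lo ≅ (ModuleCat.extendScalars.{u, u, u} φ).obj M :=
      (HomologicalComplex.singleObjHomologySelfIso _ lo _).symm ≪≫
        (HomologicalComplex.homologyMapIso eS lo).symm ≪≫ eP ≪≫ eh ≪≫
        (ModuleCat.extendScalars.{u, u, u} φ).mapIso (isoOfQuasiIsoAt q lo).symm
    have hMB : sized B s ((ModuleCat.extendScalars.{u, u, u} φ).obj M) := (sized B s).prop_of_iso eB (hP.1 lo)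
    have hMs : sized R (G m 0 s) M :=
      ⟨projective_of_bc φ hφ hMB.1, sized_of_bc φ hc ‹_› (exists_epi_of_sized hMB)⟩
    haveI hGE : (DRing.toD C).IsGE lo := (DerivedCategory.isGE_iff _ _).2 fun i hi =>
      ((PC.exactAt_iff_isZero C i).1 (hex i (by omega)))
    haveI hLE : (DRing.toD C).IsLE lo := (DerivedCategory.isLE_iff _ _).2 fun i hi =>
      ((PC.exactAt_iff_isZero C i).1 (hex i (by omega)))
    obtain ⟨Y, ⟨eY⟩⟩ := exists_iso_singleFunctor_obj_of_isGE_of_isLE (DRing.toD C) lo
    let eY' : DRing.toD C ≅ DRing.toD ((HomologicalComplex.single _ (ComplexShape.up ℤ) lo).obj Y) :=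
      eY ≪≫ (singleFunctorIsoCompQ _ lo).app Y
    obtain ⟨eYh⟩ := homology_iso eY' lo
    refine ⟨(HomologicalComplex.single _ (ComplexShape.up ℤ) lo).obj Y, within_single lo ?_, ⟨eY'.symm⟩⟩
    exact (sized R _).prop_of_iso
      (isoOfQuasiIsoAt q lo ≪≫ eYh ≪≫ HomologicalComplex.singleObjHomologySelfIso _ lo _) hMs
  | succ j ih =>
    intro s C a b hC lo P hP e
    let t : ℤ := lo + j + 1
    have ht : lo + ((j + 1 : ℕ) : ℤ) = t := by simp [t]; ring
    rw [ht] at hP ⊢
    have hex : ∀ i, t < i → C.ExactAt i := fun i hi => exact_cx_of_bc φ hφ C i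
      (exactAt_iso e.symm (HomologicalComplex.ExactAt.of_isZero (hP.2 i (Or.inr hi))))
    obtain ⟨C₀, q, hC₀, hq⟩ := PC.exists_within_of_acyclic_above (finProj R) stable_finProj
      (a := min a (t - 1)) (b := t) (c := b) (by omega) C
      ⟨hC.1, fun i hi => hC.2 i (by omega)⟩ hex
    obtain ⟨p, hp, hpe⟩ := exists_epi_homology_top C₀ t (hC₀.2 _ (Or.inr (by omega)))
    haveI := (hC₀.1 t).1
    haveI hMfin : Module.Finite R (C₀.homology t) :=
      Module.Finite.of_surjective p.hom ((ModuleCat.epi_iff_surjective _).1 hp)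
    obtain ⟨pP, hpP, -⟩ := exists_epi_homology_top P t (hP.2 _ (Or.inr (by omega)))
    obtain ⟨eP⟩ := homology_iso e t
    obtain ⟨eh⟩ := nonempty_homology_bcCx φ hφ.flat C t
    haveI := hq
    obtain ⟨gen, hgen⟩ := sized_of_bc φ (s := s) hc hMfin (by
      obtain ⟨g, hg⟩ := exists_epi_of_sized (hP.1 t)
      exact ⟨g ≫ pP ≫ eP.hom ≫ eh.hom ≫ (ModuleCat.extendScalars.{u, u, u} φ).map (isoOfQuasiIsoAt q t).inv,
        epi_comp _ _⟩)
    let F : ModuleCat.{u} R := ModuleCat.of R (Fin (s * m) → R)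
    haveI : Projective F := (IsProjective.iff_projective (R := R) F).1 inferInstance
    let genH : F ⟶ C₀.homology t := ModuleCat.ofHom gen
    haveI he : Epi genH := (ModuleCat.epi_iff_surjective _).2 hgen
    let l : F ⟶ C₀.X t := Projective.factorThru genH p
    have hl : l ≫ p = genH := Projective.factorThru_comp _ _
    let ψ : (HomologicalComplex.single _ (ComplexShape.up ℤ) t).obj F ⟶ C₀ :=
      HomologicalComplex.mkHomFromSingle l (fun i hi => (hC₀.2 i (Or.inr (by
        have : t + 1 = i := hi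
        omega))).eq_of_tgt _ _)
    let C' := CochainComplex.mappingCone ψ
    have hFp : finProj R F := ⟨inferInstance, inferInstance⟩
    have hC' : PC.Within (finProj R) (min a (t - 1)) t C' := by
      refine ⟨fun i => ?_, fun i hi => ?_⟩
      · refine (finProj R).prop_of_iso (HomologicalComplex.homotopyCofiber.XIsoBiprod ψ i (i + 1) rfl).symm
          (finProj_biprod ?_ (hC₀.1 _))
        exact sized_finProj ((within_single t (s := s * m) ⟨inferInstance, LinearMap.id, Function.surjective_id⟩).1 _)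
      · refine (CochainComplex.mappingCone.isZero_X_iff ψ i).2 ⟨?_, hC₀.2 i (by omega)⟩
        exact HomologicalComplex.isZero_single_obj_X _ _ _ _ (by omega)
    have htop : C'.ExactAt t := by
      refine PC.exactAt_cone_of_mono_epi ψ (k := t + 1) rfl ?_ ?_
      · exact ⟨fun g g' _ => (HomologicalComplex.ExactAt.of_isZero
          (HomologicalComplex.isZero_single_obj_X (ComplexShape.up ℤ) t F (t + 1) (by omega))).isZero_homology.eq_of_tgt g g'⟩
      · rw [PC.epi_iff ψ (t - 1) t (t + 1) (by omega) rfl]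
        intro A y hy
        let π := pullback.fst (y ≫ p) genH
        let x := pullback.snd (y ≫ p) genH
        have hpx : (π ≫ y - x ≫ l) ≫ p = 0 := by
          rw [Preadditive.sub_comp, Category.assoc, Category.assoc, hl, pullback.condition, sub_self]
        have hS : (ShortComplex.mk (C₀.d (t - 1) t) p (ModuleCat.hom_ext (LinearMap.ext fun z =>
            hpe.apply_apply_eq_zero z))).Exact := (ShortComplex.ShortExact.moduleCat_exact_iff_function_exact _).2 hpe
        obtain ⟨A', π', hπ', z, hz⟩ := hS.exact_up_to_refinements (π ≫ y - x ≫ l) hpx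
        refine ⟨A', π' ≫ π, epi_comp _ _,
          π' ≫ x ≫ (HomologicalComplex.singleObjXSelf (ComplexShape.up ℤ) t F).inv,
          (HomologicalComplex.isZero_single_obj_X (ComplexShape.up ℤ) t F (t + 1) (by omega)).eq_of_tgt _ _, z, ?_⟩
        have hf : ψ.f t = (HomologicalComplex.singleObjXSelf (ComplexShape.up ℤ) t F).hom ≫ l := by
          simp [ψ]
        simp only [hf, Category.assoc, Iso.inv_hom_id_assoc]
        have hz' : π' ≫ (π ≫ y - x ≫ l) = z ≫ C₀.d (t - 1) t := hz
        rw [← hz', Preadditive.comp_sub]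
        abel
    let eCB : DRing.toD ((bcCx φ).obj C₀) ≅ DRing.toD ((bcCx φ).obj C) := by
      haveI : QuasiIso ((bcCx φ).map q) := by
        haveI := preservesHomology_extendScalars φ hφ.flat
        exact inferInstanceAs (QuasiIso (((ModuleCat.extendScalars.{u, u, u} φ).mapHomologicalComplex _).map q))
      exact asIso (Q.map ((bcCx φ).map q))
    let FB : ModuleCat.{u} B := (ModuleCat.extendScalars.{u, u, u} φ).obj F
    have hFB : sized B (s * m) FB := by
      letI := φ.toAlgebra
      refine ⟨inferInstanceAs (Module.Projective B (TensorProduct R B (Fin (s * m) → R))),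
        (TensorProduct.piScalarRight R B B (Fin (s * m))).symm.toLinearMap, ?_⟩
      exact (TensorProduct.piScalarRight R B B (Fin (s * m))).symm.surjective
    let eFB : DRing.toD ((HomologicalComplex.single _ (ComplexShape.up ℤ) t).obj FB) ≅
        DRing.toD ((bcCx φ).obj ((HomologicalComplex.single _ (ComplexShape.up ℤ) t).obj F)) :=
      Q.mapIso ((HomologicalComplex.singleMapHomologicalComplex (ModuleCat.extendScalars.{u, u, u} φ) (ComplexShape.up ℤ) t).app F).symm
    obtain ⟨P'', hP'', ⟨eP''⟩⟩ := exists_sized_cone (mappingCone_triangle_distinguished ((bcCx φ).map ψ))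
      (within_single t hFB) hP (a := lo) (b := t) (by omega) le_rfl (by omega) le_rfl eFB (e ≪≫ eCB.symm)
    let eC' : DRing.toD P'' ≅ DRing.toD ((bcCx φ).obj C') :=
      eP'' ≪≫ Q.mapIso (CochainComplex.mappingCone.mapHomologicalComplexIso ψ (ModuleCat.extendScalars.{u, u, u} φ)).symm
    obtain ⟨P₃, r, hP₃, hr⟩ := PC.exists_within_trunc (sized B (s * m + s)) (stable_sized _)
      (show lo < t by omega) P'' hP'' (exactAt_iso eC' (exact_bc_of_cx φ hφ C' t htop))
    haveI := hr
    obtain ⟨E', hE', ⟨eE'⟩⟩ := ih (s * m + s) C' _ _ hC' lo P₃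
      ⟨hP₃.1, fun i hi => hP₃.2 i (by omega)⟩ (asIso (Q.map r) ≪≫ eC')
    let E₁ : DRing.Cx R := E'⟦(-1 : ℤ)⟧
    have hE₁ : PC.Within (sized R (G m j (s * m + s))) (lo + 1) t E₁ :=
      ⟨fun i => (sized R _).prop_of_iso
          (((CochainComplex.shiftFunctor _ (-1 : ℤ)).obj E').XIsoOfEq rfl) (hE'.1 (i + -1)),
        fun i hi => hE'.2 (i + -1) (by omega)⟩
    have hFs : sized R (s * m) F := ⟨inferInstance, LinearMap.id, Function.surjective_id⟩
    obtain ⟨E, hE, ⟨eE⟩⟩ := exists_sized_cone (inv_rot_of_distTriang _ (mappingCone_triangle_distinguished ψ))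
      hE₁ (within_single t hFs) (a := lo) (b := t) (by omega) (by omega) (by omega) le_rfl
      ((Q.commShiftIso (-1 : ℤ)).app E' ≪≫ (shiftFunctor _ (-1 : ℤ)).mapIso eE')
      (Iso.refl _)
    haveI hqi : IsIso (Q.map q) := (DerivedCategory.isIso_Q_map_iff_quasiIso _ q).2 hq
    let eqI := @asIso _ _ _ _ (Q.map q) hqi
    refine ⟨E, ?_, ⟨eE ≪≫ eqI⟩⟩
    simp only [G]
    rw [add_comm s (s * m)]
    exact hE

end GrothLib.GlobSize16
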