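import Groth.Agent.Lib.PC.Perfect
import Groth.Agent.Lib.GenCover.NisGen
import Groth.Agent.Lib.OX.TildePerfect
import Groth.Prelude.Def_W4c5algebraiztannakaNis
import Mathlib

/-!
# Projective modules with boundedly many generators; base change along a flat map
-/

set_option autoImplicit false
set_option linter.all false

universe u

open CategoryTheory CategoryTheory.Limits CategoryTheory.Pretriangulated AlgebraicGeometry

noncomputable section

namespace GrothLib.GlobSize16

variable {R : Type u} [CommRing R]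

/-- Projective quotients of `R^s`. -/
def sized (R : Type u) [CommRing R] (s : ℕ) : ObjectProperty (ModuleCat.{u} R) := fun M =>
  Module.Projective R M ∧ ∃ g : (Fin s → R) →ₗ[R] M, Function.Surjective g

/-- Finite projective modules. -/
def finProj (R : Type u) [CommRing R] : ObjectProperty (ModuleCat.{u} R) := fun M =>
  Module.Finite R M ∧ Module.Projective R M

theorem sized_finProj {s : ℕ} {M : ModuleCat.{u} R} (h : sized R s M) : finProj R M := by
  obtain ⟨hp, g, hg⟩ := h
  exact ⟨Module.Finite.of_surjective g hg, hp⟩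

theorem sized_mono {s t : ℕ} (hst : s ≤ t) {M : ModuleCat.{u} R} (h : sized R s M) : sized R t M := by
  obtain ⟨hp, g, hg⟩ := h
  refine ⟨hp, g.comp (LinearMap.funLeft R R (Fin.castLE hst)), hg.comp ?_⟩
  exact LinearMap.funLeft_surjective_of_injective R R _ (Fin.castLE_injective hst)

instance (s : ℕ) : (sized R s).IsClosedUnderIsomorphisms :=
  ⟨fun {_ _} e h => ⟨(haveI := h.1; Module.Projective.of_equiv e.toLinearEquiv),
    let ⟨g, hg⟩ := h.2
    ⟨e.toLinearEquiv.toLinearMap.comp g, e.toLinearEquiv.surjective.comp hg⟩⟩⟩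

instance : (finProj R).IsClosedUnderIsomorphisms :=
  ⟨fun {_ _} e h => ⟨@Module.Finite.equiv _ _ _ _ _ _ _ _ h.1 e.toLinearEquiv,
    (haveI := h.2; Module.Projective.of_equiv e.toLinearEquiv)⟩⟩

theorem sized_of_isZero (s : ℕ) {M : ModuleCat.{u} R} (h : IsZero M) : sized R s M := by
  haveI : Subsingleton M := ModuleCat.subsingleton_of_isZero h
  haveI : Module.Free R M := Module.Free.of_subsingleton R M
  exact ⟨Module.Projective.of_free, 0, fun x => ⟨0, Subsingleton.elim _ _⟩⟩

instance (s : ℕ) : (sized R s).ContainsZero :=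
  ⟨⟨ModuleCat.of R PUnit.{u+1}, ModuleCat.isZero_of_subsingleton _, sized_of_isZero s (ModuleCat.isZero_of_subsingleton _)⟩⟩

instance : (finProj R).ContainsZero :=
  ⟨⟨ModuleCat.of R PUnit.{u+1}, ModuleCat.isZero_of_subsingleton _,
    sized_finProj (sized_of_isZero 0 (ModuleCat.isZero_of_subsingleton _))⟩⟩

theorem lift_of_projective (E F : ModuleCat.{u} R) (w : E ⟶ F) (hw : Epi w) (hF : Module.Projective R F) :
    IsSplitEpi w := by
  haveI : Projective F := (IsProjective.iff_projective (R := R) F).1 hF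
  exact ⟨⟨⟨Projective.factorThru (𝟙 F) w, Projective.factorThru_comp _ _⟩⟩⟩

theorem lift_sized (s : ℕ) : ∀ (E F : ModuleCat.{u} R) (w : E ⟶ F), Epi w → sized R s F → IsSplitEpi w :=
  fun E F w hw h => lift_of_projective E F w hw h.1

theorem kernel_retraction {E F : ModuleCat.{u} R} (w : E ⟶ F) (hw : Epi w) (hF : Module.Projective R F) :
    ∃ r : E →ₗ[R] (kernel w : ModuleCat.{u} R),
      Function.Surjective r ∧ r.comp (kernel.ι w).hom = LinearMap.id := by
  haveI := lift_of_projective E F w hw hF
  let r : E ⟶ kernel w := kernel.lift w (𝟙 E - w ≫ section_ w) (by simp)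
  have h : kernel.ι w ≫ r = 𝟙 _ := by
    rw [← cancel_mono (kernel.ι w)]
    simp [r]
  refine ⟨r.hom, fun x => ⟨(kernel.ι w).hom x, ConcreteCategory.congr_hom h x⟩, congrArg ModuleCat.Hom.hom h⟩

theorem stable_sized (s : ℕ) : ∀ (E F : ModuleCat.{u} R) (w : E ⟶ F), Epi w → sized R s E → sized R s F →
    sized R s (kernel w) := by
  intro E F w hw hE hF
  obtain ⟨r, hr, hri⟩ := kernel_retraction w hw hF.1
  obtain ⟨g, hg⟩ := hE.2
  haveI := hE.1
  exact ⟨Module.Projective.of_split _ r hri, r.comp g, hr.comp hg⟩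

theorem stable_finProj : ∀ (E F : ModuleCat.{u} R) (w : E ⟶ F), Epi w → finProj R E → finProj R F →
    finProj R (kernel w) := by
  intro E F w hw hE hF
  obtain ⟨r, hr, hri⟩ := kernel_retraction w hw hF.2
  haveI := hE.1
  haveI := hE.2
  exact ⟨Module.Finite.of_surjective r hr, Module.Projective.of_split _ r hri⟩

theorem sized_biprod {s t : ℕ} {X Y : ModuleCat.{u} R} (hX : sized R s X) (hY : sized R t Y) :
    sized R (s + t) (X ⊞ Y) := by
  obtain ⟨hXp, g, hg⟩ := hX
  obtain ⟨hYp, g', hg'⟩ := hY
  refine (sized R (s + t)).prop_of_iso (ModuleCat.biprodIsoProd X Y).symm ⟨?_, ?_⟩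
  · exact (inferInstance : Module.Projective R (X × Y))
  · refine ⟨LinearMap.prod (g.comp (LinearMap.funLeft R R (Fin.castAdd t))) (g'.comp (LinearMap.funLeft R R (Fin.natAdd s))), ?_⟩
    rintro ⟨x, y⟩
    obtain ⟨a, rfl⟩ := hg x
    obtain ⟨b, rfl⟩ := hg' y
    refine ⟨Fin.append a b, Prod.ext ?_ ?_⟩ <;>
      · simp only [LinearMap.prod_apply, LinearMap.coe_comp, Function.comp_apply, Function.prod_apply]
        congr 1; funext i; simp [LinearMap.funLeft_apply]

theorem finProj_biprod {X Y : ModuleCat.{u} R} (hX : finProj R X) (hY : finProj R Y) : finProj R (X ⊞ Y) := by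
  obtain ⟨_, _⟩ := hX
  obtain ⟨_, _⟩ := hY
  exact (finProj R).prop_of_iso (ModuleCat.biprodIsoProd X Y).symm
    (⟨inferInstance, inferInstance⟩ : finProj R (ModuleCat.of R (X × Y)))

variable {B : Type u} [CommRing B] (φ : R →+* B)

/-- Extension of scalars along a flat map preserves homology. -/
theorem preservesHomology_extendScalars (hφ : φ.Flat) :
    (ModuleCat.extendScalars.{u, u, u} φ).PreservesHomology := by
  letI := φ.toAlgebra
  haveI : Module.Flat R B := hφ
  haveI : (ModuleCat.extendScalars.{u, u, u} φ).PreservesMonomorphisms := ⟨fun {X Y} f hf => by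
    rw [ModuleCat.mono_iff_injective] at hf ⊢
    exact Module.Flat.lTensor_preserves_injective_linearMap f.hom hf⟩
  haveI := (ModuleCat.extendRestrictScalarsAdj.{u, u, u} φ).leftAdjoint_preservesColimits
  exact Functor.preservesHomology_of_preservesMonos_and_cokernels _

/-- Homology commutes with a flat base change. -/
theorem nonempty_homology_bcCx (hφ : φ.Flat) (K : DRing.Cx R) (i : ℤ) :
    Nonempty (((W4c5algebraiztannaka.bcCx φ).obj K).homology i ≅
      (ModuleCat.extendScalars.{u, u, u} φ).obj (K.homology i)) := by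
  haveI := preservesHomology_extendScalars φ hφ
  exact ⟨(K.sc i).mapHomologyIso (ModuleCat.extendScalars.{u, u, u} φ)⟩

/-- A faithfully flat base change reflects zero. -/
theorem subsingleton_of_extendScalars (hφ : φ.FaithfullyFlat) (M : ModuleCat.{u} R)
    (h : IsZero ((ModuleCat.extendScalars.{u, u, u} φ).obj M)) : IsZero M := by
  letI := φ.toAlgebra
  haveI : Module.FaithfullyFlat R B := hφ
  haveI : Subsingleton (TensorProduct R B M) := ModuleCat.subsingleton_of_isZero h
  haveI : Subsingleton M := Module.FaithfullyFlat.lTensor_reflects_triviality R B M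
  exact ModuleCat.isZero_of_subsingleton M

/-- Generators from generators on a Nisnevich cover. -/
theorem exists_generators {m s : ℕ} (hc : W4c5algebraiztannaka.IsNisCoverLen (Spec.map (CommRingCat.ofHom φ)) m)
    (M : ModuleCat.{u} R) [Module.Finite R M]
    (g : ModuleCat.of B (Fin s → B) ⟶ (ModuleCat.extendScalars.{u, u, u} φ).obj M) [Epi g] :
    ∃ t : (Fin (s * m) → R) →ₗ[R] M, Function.Surjective t := by
  classical
  let eF : (ULift.{u} (Fin s) →₀ B) ≃ₗ[B] (Fin s → B) :=
    (Finsupp.linearEquivFunOnFinite B B _).trans (LinearEquiv.funCongrLeft B B Equiv.ulift.symm)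
  let e0 : ModuleCat.of B (ULift.{u} (Fin s) →₀ B) ⟶ (ModuleCat.extendScalars.{u, u, u} φ).obj M :=
    eF.toModuleIso.hom ≫ g
  haveI : Epi e0 := epi_comp _ _
  haveI := Functor.preservesEpimorphisms_of_adjunction (tilde.adjunction (R := CommRingCat.of B))
  haveI : Epi ((tilde.functor (CommRingCat.of B)).map e0) := Functor.map_epi _ _
  let ψ : FlatMod.freeMod (Spec (CommRingCat.of B)) s ⟶
      (Scheme.Modules.pullback (Spec.map (CommRingCat.ofHom φ))).obj (tilde M) :=
    (GrothLib.OX.tildeFreeIso (CommRingCat.of B) s).inv ≫ (tilde.functor (CommRingCat.of B)).map e0 ≫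
      ((GenCover.pullTildeIso (CommRingCat.ofHom φ)).app M).inv
  haveI : Epi ψ := epi_comp _ _
  obtain ⟨t, ht⟩ := GenCover.exists_generators_of_isNisCoverLen (R := CommRingCat.of R) M _ m s hc ψ
  exact ⟨Fintype.linearCombination R t, LinearMap.range_eq_top.1 (by rw [Fintype.range_linearCombination]; exact ht)⟩

/-- A Nisnevich cover of rings is faithfully flat. -/
theorem faithfullyFlat_of_isNisCoverLen {m : ℕ}
    (hc : W4c5algebraiztannaka.IsNisCoverLen (Spec.map (CommRingCat.ofHom φ)) m) : φ.FaithfullyFlat := by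
  rw [RingHom.FaithfullyFlat.iff_flat_and_comap_surjective]
  refine ⟨?_, fun x => ?_⟩
  · have h1 : φ.Etale := (HasRingHomProperty.Spec_iff (P := @Etale)).1 hc.etale
    exact (RingHom.Etale.iff_flat_and_formallyUnramified.1 h1).1
  · obtain ⟨Z, h0, h1, -, -, hsec⟩ := hc.flag
    obtain ⟨k, hk⟩ : ∃ k : Fin m, x ∈ Z k.succ \ Z k.castSucc := by
      by_contra hne
      push Not at hne
      have : ∀ j, x ∉ Z j := by
        intro j
        induction j using Fin.induction with
        | zero => rw [h0]; exact Set.notMem_empty _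
        | succ j ih => exact fun hx => hne j ⟨hx, ih⟩
      exact this (Fin.last m) (h1 ▸ Set.mem_univ _)
    obtain ⟨T, g, s, -, hr, hs⟩ := hsec k
    rw [← hr] at hk
    obtain ⟨t, rfl⟩ := hk
    exact ⟨s t, by rw [← hs]; rfl⟩

end GrothLib.GlobSize16
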